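import Mathlib.Algebra.MvPolynomial.Supported
import Mathlib.Algebra.MvPolynomial.Funext
import Mathlib.AlgebraicGeometry.Birational.Birational
import Mathlib.AlgebraicGeometry.Morphisms.FiniteType
import Mathlib.AlgebraicGeometry.AffineSpace

/-!
# Rational points of opens of affine space; rational varieties as opens of finite affine spaces
-/

set_option autoImplicit false
set_option linter.all false
set_option backward.isDefEq.respectTransparency false

universe u

open CategoryTheory CategoryTheory.Limits AlgebraicGeometry TopologicalSpace MvPolynomial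

noncomputable section

namespace GrothLib.RetractRat13

variable {k : Type u} [Field k]

/-- A localization `k[σ]_p` of finite type over `k` forces `σ` to be finite. -/
theorem finite_of_finiteType_away {σ : Type u} {p : MvPolynomial σ k} (hp : p ≠ 0)
    [Algebra.FiniteType k (Localization.Away p)] : Finite σ := by
  classical
  obtain ⟨t, ht⟩ := Algebra.FiniteType.out (R := k) (A := Localization.Away p)
  choose a ha using fun x : Localization.Away p => IsLocalization.Away.surj p x
  choose b hb using ha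
  let s : Finset σ := p.vars ∪ t.biUnion (fun x => (b x).vars)
  have hsp : p ∈ supported k (s : Set σ) := mem_supported.2 (by simp [s])
  have key : ∀ x : Localization.Away p, ∃ N : ℕ, ∃ c ∈ supported k (s : Set σ),
      x * algebraMap _ _ p ^ N = algebraMap _ _ c := by
    intro x
    have hx : x ∈ Algebra.adjoin k (t : Set (Localization.Away p)) := ht ▸ Algebra.mem_top
    induction hx using Algebra.adjoin_induction with
    | mem y hy =>
      refine ⟨a y, b y, mem_supported.2 ?_, hb y⟩
      intro i hi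
      simp only [s, Finset.coe_union, Set.mem_union, Finset.mem_coe, Finset.mem_biUnion]
      exact Or.inr ⟨y, hy, hi⟩
    | algebraMap r =>
      exact ⟨0, algebraMap k _ r, Subalgebra.algebraMap_mem _ r, by
        rw [pow_zero, mul_one, ← IsScalarTower.algebraMap_apply]⟩
    | add y z _ _ hy hz =>
      obtain ⟨N, c, hc, hy⟩ := hy
      obtain ⟨M, d, hd, hz⟩ := hz
      refine ⟨N + M, c * p ^ M + d * p ^ N, add_mem (mul_mem hc (pow_mem hsp M)) (mul_mem hd (pow_mem hsp N)), ?_⟩
      rw [map_add, map_mul, map_mul, map_pow, map_pow, ← hy, ← hz]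
      ring
    | mul y z _ _ hy hz =>
      obtain ⟨N, c, hc, hy⟩ := hy
      obtain ⟨M, d, hd, hz⟩ := hz
      refine ⟨N + M, c * d, mul_mem hc hd, ?_⟩
      rw [map_mul, ← hy, ← hz]
      ring
  suffices h : ∀ i : σ, i ∈ s by exact Finite.of_injective (fun i => (⟨i, h i⟩ : s)) (fun a b hab => by simpa using hab)
  intro i
  by_contra hi
  obtain ⟨N, c, hc, hx⟩ := key (algebraMap (MvPolynomial σ k) (Localization.Away p) (X i))
  rw [← map_pow, ← map_mul] at hx
  have hx' : X i * p ^ N = c :=
    IsLocalization.injective (Localization.Away p) (powers_le_nonZeroDivisors_of_noZeroDivisors hp) hx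
  let θ : MvPolynomial σ k →ₐ[k] MvPolynomial σ k := aeval (fun j => if j = i then 0 else X j)
  have hθ : ∀ q ∈ supported k (s : Set σ), θ q = q := by
    intro q hq
    rw [supported_eq_adjoin_X] at hq
    induction hq using Algebra.adjoin_induction with
    | mem y hy =>
      obtain ⟨j, hj, rfl⟩ := hy
      have hji : j ≠ i := fun h => hi (h ▸ hj)
      simp [θ, hji]
    | algebraMap r => exact θ.commutes r
    | add y z _ _ hy hz => rw [map_add, hy, hz]
    | mul y z _ _ hy hz => rw [map_mul, hy, hz]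
  have h1 := congrArg θ hx'
  rw [map_mul, show θ (X i) = 0 by simp [θ], zero_mul, hθ c hc] at h1
  rw [← h1] at hx'
  exact mul_ne_zero (X_ne_zero i) (pow_ne_zero N hp) hx'

theorem exists_basicOpen_le.{v} {σ : Type v} (W : (Spec (CommRingCat.of (MvPolynomial σ k))).Opens)
    (hW : (W : Set (Spec (CommRingCat.of (MvPolynomial σ k)))).Nonempty) :
    ∃ p : MvPolynomial σ k, p ≠ 0 ∧ PrimeSpectrum.basicOpen p ≤ W := by
  obtain ⟨w, hw⟩ := hW
  obtain ⟨_, ⟨p, rfl⟩, hwp, hpW⟩ :=
    PrimeSpectrum.isTopologicalBasis_basic_opens.exists_subset_of_mem_open hw W.2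
  exact ⟨p, fun h => hwp (h ▸ w.asIdeal.zero_mem), hpW⟩

/-- A nonempty open of an affine space over an infinite field has a rational point. -/
theorem exists_point {N : ℕ} [Infinite k] (W : (Spec (CommRingCat.of (MvPolynomial (Fin N) k))).Opens)
    (hW : (W : Set (Spec (CommRingCat.of (MvPolynomial (Fin N) k)))).Nonempty) :
    ∃ z : Spec (CommRingCat.of k) ⟶ (W : Scheme.{u}),
      z ≫ W.ι ≫ Spec.map (CommRingCat.ofHom (algebraMap k (MvPolynomial (Fin N) k))) = 𝟙 _ := by
  obtain ⟨p, hp, hpW⟩ := exists_basicOpen_le W hW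
  obtain ⟨v, hv⟩ : ∃ v : Fin N → k, eval v p ≠ 0 := by
    by_contra h
    simp only [not_exists, not_not] at h
    exact hp (MvPolynomial.funext fun v => by rw [h v, map_zero])
  let z₀ := Spec.map (CommRingCat.ofHom (eval v : MvPolynomial (Fin N) k →+* k))
  have hr : Set.range z₀ ⊆ Set.range W.ι := by
    rintro _ ⟨x, rfl⟩
    rw [Scheme.Opens.range_ι]
    exact hpW fun h => x.2.ne_top (Ideal.eq_top_of_isUnit_mem _ h (isUnit_iff_ne_zero.2 hv))
  refine ⟨IsOpenImmersion.lift W.ι z₀ hr, ?_⟩
  rw [IsOpenImmersion.lift_fac_assoc, ← Spec.map_comp, ← Spec.map_id]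
  congr 1
  ext r
  exact eval_C r

/-- A nonempty scheme of finite type over `k` which is rational over `k` contains an open isomorphic
to an open of a finite dimensional affine space. -/
theorem exists_open_iso_of_isRationalOver {Z : Scheme.{u}} (s : Z ⟶ Spec (CommRingCat.of k))
    [LocallyOfFiniteType s] [Scheme.IsRationalOver s] :
    ∃ (N : ℕ) (W : (Spec (CommRingCat.of (MvPolynomial (Fin N) k))).Opens) (j : (W : Scheme.{u}) ⟶ Z),
      (W : Set (Spec (CommRingCat.of (MvPolynomial (Fin N) k)))).Nonempty ∧ IsOpenImmersion j ∧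
      j ≫ s = W.ι ≫ Spec.map (CommRingCat.ofHom (algebraMap k (MvPolynomial (Fin N) k))) := by
  obtain ⟨σ, P, hP⟩ := Scheme.IsRationalOver.exists_birationalOver_affineSpace s
  let t : (P.target : Scheme.{u}) ⟶ Spec (CommRingCat.of (MvPolynomial σ k)) :=
    P.target.ι ≫ (AffineSpace.SpecIso σ (CommRingCat.of k)).hom
  haveI : Nonempty (P.target : Scheme.{u}) := by
    haveI : Nonempty (𝔸(σ; Spec (CommRingCat.of k))) :=
      ⟨(AffineSpace.SpecIso σ (CommRingCat.of k)).inv (Nonempty.some (inferInstanceAs (Nonempty (PrimeSpectrum _))))⟩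
    obtain ⟨x, hx⟩ := P.dense_target.nonempty
    exact ⟨⟨x, hx⟩⟩
  let W₀ := t.opensRange
  let j₀ : (W₀ : Scheme.{u}) ⟶ Z := t.isoOpensRange.inv ≫ P.iso.inv ≫ P.source.ι
  have hj₀ : j₀ ≫ s = W₀.ι ≫ Spec.map (CommRingCat.ofHom (algebraMap k (MvPolynomial σ k))) := by
    have h1 : P.source.ι ≫ s = P.iso.hom ≫ P.target.ι ≫ 𝔸(σ; Spec (CommRingCat.of k)) ↘ Spec (CommRingCat.of k) := (Eq.symm (show P.iso.hom ≫ P.target.ι ≫ _ = P.source.ι ≫ s from hP))
    simp only [j₀, Category.assoc, h1, Iso.inv_hom_id_assoc]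
    have h2 : W₀.ι = t.isoOpensRange.inv ≫ t := (Scheme.Hom.isoOpensRange_inv_comp t).symm
    rw [h2]
    simp only [Category.assoc, t]
    congr 2
    rw [← Iso.inv_comp_eq, AffineSpace.SpecIso_inv_over]
    rfl
  have hW₀ : (W₀ : Set (Spec (CommRingCat.of (MvPolynomial σ k)))).Nonempty :=
    ⟨t (Nonempty.some inferInstance), _, rfl⟩
  obtain ⟨p, hp, hpW⟩ := exists_basicOpen_le W₀ hW₀
  let i₀ := Spec.map (CommRingCat.ofHom (algebraMap (MvPolynomial σ k) (Localization.Away p)))
  have hi₀ : Set.range i₀ ⊆ Set.range W₀.ι := by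
    rw [Scheme.Opens.range_ι]
    rintro _ ⟨x, rfl⟩
    exact hpW fun h => x.2.ne_top (Ideal.eq_top_of_isUnit_mem _ h (IsLocalization.Away.algebraMap_isUnit p))
  haveI : Algebra.FiniteType k (Localization.Away p) := by
    have hl : LocallyOfFiniteType (Spec.map (CommRingCat.ofHom (algebraMap k (Localization.Away p)))) := by
      have : Spec.map (CommRingCat.ofHom (algebraMap k (Localization.Away p))) =
          IsOpenImmersion.lift W₀.ι i₀ hi₀ ≫ j₀ ≫ s := by
        rw [hj₀, IsOpenImmersion.lift_fac_assoc, ← Spec.map_comp]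
        congr 1
      rw [this]
      haveI : IsOpenImmersion (IsOpenImmersion.lift W₀.ι i₀ hi₀) := by
        haveI : IsOpenImmersion i₀ := inferInstance
        exact IsOpenImmersion.of_comp _ W₀.ι
      infer_instance
    exact RingHom.finiteType_algebraMap.1 (HasRingHomProperty.Spec_iff.1 hl)
  haveI := finite_of_finiteType_away hp
  haveI := Fintype.ofFinite σ
  let e := (renameEquiv k (Fintype.equivFin σ).symm).toRingEquiv.toCommRingCatIso
  let t' := W₀.ι ≫ Spec.map e.hom
  let W := t'.opensRange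
  refine ⟨Fintype.card σ, W, t'.isoOpensRange.inv ≫ j₀, ⟨t' ⟨_, hW₀.some_mem⟩, _, rfl⟩, inferInstance, ?_⟩
  rw [Category.assoc, hj₀, ← Scheme.Hom.isoOpensRange_inv_comp t']
  simp only [Category.assoc, t']
  congr 2
  rw [← Spec.map_comp]
  congr 1
  refine CommRingCat.hom_ext (RingHom.ext fun r => ?_)
  exact ((renameEquiv k (Fintype.equivFin σ).symm).commutes r).symm

end GrothLib.RetractRat13
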