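import Groth.Agent.Lib.RetractRat13.Basic
import Mathlib.RingTheory.AlgebraicIndependent.TranscendenceBasis
import Mathlib.RingTheory.Algebraic.Integral
import Mathlib.RingTheory.Ideal.GoingUp
import Mathlib.Algebra.MvPolynomial.Funext

/-!
# Cutting down a dominant map from an open of affine space to the dimension of the target
-/

set_option autoImplicit false
set_option linter.all false
set_option backward.isDefEq.respectTransparency false

universe u

open MvPolynomial Cardinal

noncomputable section

namespace GrothLib.RetractRat13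

variable {k : Type u} [Field k]

/-- If `A` is a finitely generated algebraic extension of a domain `R`, then away from a nonzero
element every prime of `R` has a prime over it. -/
theorem exists_prime_over {R A : Type u} [CommRing R] [IsDomain R] [CommRing A] [IsDomain A] [Algebra R A]
    [Algebra.IsAlgebraic R A] [Algebra.FiniteType R A] [FaithfulSMul R A] :
    ∃ g : R, g ≠ 0 ∧ ∀ P : Ideal R, P.IsPrime → g ∉ P → ∃ Q : Ideal A, Q.IsPrime ∧ Q.comap (algebraMap R A) = P := by
  classical
  obtain ⟨t, ht⟩ := Algebra.FiniteType.out (R := R) (A := A)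
  obtain ⟨g, hg, hgt⟩ := Algebra.IsAlgebraic.exists_integral_multiples R t
  refine ⟨g, hg, fun P hP hgP => ?_⟩
  let A' := integralClosure R A
  have hpow : ∀ a : A, ∃ N : ℕ, algebraMap R A g ^ N * a ∈ A' := by
    intro a
    have ha : a ∈ Algebra.adjoin R (t : Set A) := ht ▸ Algebra.mem_top
    induction ha using Algebra.adjoin_induction with
    | mem y hy => exact ⟨1, by rw [pow_one, ← Algebra.smul_def]; exact hgt y hy⟩
    | algebraMap r => exact ⟨0, by rw [pow_zero, one_mul]; exact A'.algebraMap_mem r⟩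
    | add y z _ _ hy hz =>
      obtain ⟨N, hN⟩ := hy; obtain ⟨M, hM⟩ := hz
      refine ⟨N + M, ?_⟩
      have : algebraMap R A g ^ (N + M) * (y + z) = algebraMap R A g ^ M * (algebraMap R A g ^ N * y) +
          algebraMap R A g ^ N * (algebraMap R A g ^ M * z) := by ring
      rw [this]
      exact add_mem (mul_mem (pow_mem (A'.algebraMap_mem g) M) hN) (mul_mem (pow_mem (A'.algebraMap_mem g) N) hM)
    | mul y z _ _ hy hz =>
      obtain ⟨N, hN⟩ := hy; obtain ⟨M, hM⟩ := hz
      refine ⟨N + M, ?_⟩
      have : algebraMap R A g ^ (N + M) * (y * z) = algebraMap R A g ^ N * y * (algebraMap R A g ^ M * z) := by ring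
      rw [this]
      exact mul_mem hN hM
  haveI : Algebra.IsIntegral R A' := ⟨fun x => isIntegral_algebraMap_iff (FaithfulSMul.algebraMap_injective A' A) |>.1 x.2⟩
  have hinj : Function.Injective (algebraMap R A') := fun a b h =>
    FaithfulSMul.algebraMap_injective R A (congrArg Subtype.val h)
  obtain ⟨Q', -, hQ', hQ'P⟩ := Ideal.exists_ideal_over_prime_of_isIntegral P (⊥ : Ideal A') (by
    intro x hx
    rw [Ideal.mem_comap, Ideal.mem_bot, ← map_zero (algebraMap R A')] at hx
    rw [hinj hx]
    exact P.zero_mem)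
  have key : ∀ x ∈ P.map (algebraMap R A), ∃ N : ℕ, ∃ y ∈ Q', (y : A) = algebraMap R A g ^ N * x := by
    intro x hx
    rw [Ideal.map, ← Ideal.submodule_span_eq] at hx
    induction hx using Submodule.span_induction with
    | mem y hy =>
      obtain ⟨r, hr, rfl⟩ := hy
      exact ⟨0, algebraMap R A' r, by rw [← Ideal.mem_comap, hQ'P]; exact hr, by rw [pow_zero, one_mul]; rfl⟩
    | zero => exact ⟨0, 0, Q'.zero_mem, by simp⟩
    | add y z _ _ hy hz =>
      obtain ⟨N, a, ha, hya⟩ := hy; obtain ⟨M, b, hb, hzb⟩ := hz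
      refine ⟨N + M, algebraMap R A' g ^ M * a + algebraMap R A' g ^ N * b,
        add_mem (Q'.mul_mem_left _ ha) (Q'.mul_mem_left _ hb), ?_⟩
      show algebraMap R A g ^ M * (a : A) + algebraMap R A g ^ N * (b : A) = _
      rw [hya, hzb]; ring
    | smul c y _ hy =>
      obtain ⟨N, a, ha, hya⟩ := hy
      obtain ⟨M, hM⟩ := hpow c
      refine ⟨M + N, ⟨_, hM⟩ * a, Q'.mul_mem_left _ ha, ?_⟩
      show algebraMap R A g ^ M * c * (a : A) = _
      rw [hya, smul_eq_mul]; ring
  refine (Ideal.comap_map_eq_self_iff_of_isPrime P).1 (le_antisymm (fun r hr => ?_) Ideal.le_comap_map)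
  obtain ⟨N, y, hy, hyr⟩ := key _ (Ideal.mem_comap.1 hr)
  have h1 : y = algebraMap R A' (g ^ N * r) := Subtype.ext (by rw [hyr, ← map_pow, ← map_mul]; rfl)
  have h2 : g ^ N * r ∈ P := by rw [← hQ'P, Ideal.mem_comap, ← h1]; exact hy
  exact (hP.mem_or_mem h2).resolve_left fun h => hgP (hP.mem_of_pow_mem N h)

theorem exists_lift_comp {n m : ℕ} {C : Type u} [CommRing C] [Algebra k C] (p : MvPolynomial (Fin n) k)
    (θ₀ : MvPolynomial (Fin n) k →ₐ[k] MvPolynomial (Fin m) k) (σ₀ : MvPolynomial (Fin m) k →ₐ[k] C)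
    (π : Localization.Away p →ₐ[k] C) (h : ∀ z, σ₀ (θ₀ z) = π (algebraMap _ _ z)) (hu : IsUnit (σ₀ (θ₀ p))) :
    ∃ (θA : Localization.Away p →ₐ[k] Localization.Away (θ₀ p)) (σ : Localization.Away (θ₀ p) →ₐ[k] C),
      σ.comp θA = π := by
  let f : MvPolynomial (Fin n) k →ₐ[k] Localization.Away (θ₀ p) :=
    (IsScalarTower.toAlgHom k (MvPolynomial (Fin m) k) (Localization.Away (θ₀ p))).comp θ₀
  have hf : ∀ y : Submonoid.powers p, IsUnit (f y) := by
    rintro ⟨_, N, rfl⟩
    show IsUnit (f (p ^ N))
    rw [map_pow]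
    exact (IsLocalization.Away.algebraMap_isUnit (θ₀ p)).pow N
  have hg : ∀ y : Submonoid.powers (θ₀ p), IsUnit (σ₀ y) := by
    rintro ⟨_, N, rfl⟩
    show IsUnit (σ₀ (θ₀ p ^ N))
    rw [map_pow]
    exact hu.pow N
  refine ⟨IsLocalization.liftAlgHom hf, IsLocalization.liftAlgHom hg, ?_⟩
  apply IsLocalization.algHom_ext (Submonoid.powers p)
  refine AlgHom.ext fun z => ?_
  show IsLocalization.lift hg (IsLocalization.lift hf (algebraMap _ _ z)) = π (algebraMap _ _ z)
  rw [IsLocalization.lift_eq]
  exact (IsLocalization.lift_eq hg (θ₀ z)).trans (h z)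

set_option maxHeartbeats 1000000 in
/-- An injection of a finitely generated domain `B` into some `k[x₁..xₙ]_p` gives one into some
`k[x₁..x_m]_q` with `m = trdeg B`. -/
theorem exists_injective_algHom_away {B : Type u} [CommRing B] [IsDomain B] [Algebra k B]
    [Algebra.FiniteType k B] [Infinite k] {n : ℕ} {p : MvPolynomial (Fin n) k} (hp : p ≠ 0)
    (ι : B →ₐ[k] Localization.Away p) (hι : Function.Injective ι) :
    ∃ (m : ℕ), Algebra.trdeg k B = m ∧ ∃ (q : MvPolynomial (Fin m) k), q ≠ 0 ∧
      ∃ θ : B →ₐ[k] Localization.Away q, Function.Injective θ := by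
  classical
  let K := MvPolynomial (Fin n) k
  let A := Localization.Away p
  have hle : Submonoid.powers p ≤ nonZeroDivisors K := powers_le_nonZeroDivisors_of_noZeroDivisors hp
  haveI : IsDomain A := IsLocalization.isDomain_localization hle
  haveI : FaithfulSMul K A := (faithfulSMul_iff_algebraMap_injective _ _).2 (IsLocalization.injective A hle)
  letI : Algebra B A := ι.toRingHom.toAlgebra
  haveI : IsScalarTower k B A := IsScalarTower.of_algebraMap_eq fun r => (ι.commutes r).symm
  haveI : FaithfulSMul B A := (faithfulSMul_iff_algebraMap_injective _ _).2 hι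
  let x : Fin n → A := fun i => algebraMap K A (X i)
  have hxinj : Function.Injective x := (IsLocalization.injective A hle).comp (MvPolynomial.X_injective)
  haveI hKA : Algebra.IsAlgebraic K A := IsLocalization.isAlgebraic A (Submonoid.powers p)
  have hx : IsTranscendenceBasis k x := (IsTranscendenceBasis.mvPolynomial (Fin n) k).algebraMap_comp
  have hA : Algebra.trdeg k A = n := by
    simpa using hx.lift_cardinalMk_eq_trdeg.symm
  haveI : Algebra.IsAlgebraic (Algebra.adjoin B (Set.range x)) A := by
    have hmem : ∀ c : K, algebraMap K A c ∈ Algebra.adjoin B (Set.range x) := by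
      intro c
      induction c using MvPolynomial.induction_on with
      | C r =>
        rw [← MvPolynomial.algebraMap_eq, ← IsScalarTower.algebraMap_apply, IsScalarTower.algebraMap_apply k B A]
        exact Subalgebra.algebraMap_mem _ _
      | add a b ha hb => rw [map_add]; exact add_mem ha hb
      | mul_X a i ha => rw [map_mul]; exact mul_mem ha (Algebra.subset_adjoin ⟨i, rfl⟩)
    refine ⟨fun a => ?_⟩
    obtain ⟨⟨c, d⟩, hcd⟩ := IsLocalization.surj (Submonoid.powers p) a
    refine ⟨Polynomial.C ⟨_, hmem d⟩ * Polynomial.X - Polynomial.C ⟨_, hmem c⟩, fun h0 => ?_, ?_⟩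
    · have := congrArg (fun q => Polynomial.coeff q 1) h0
      simp only [Polynomial.coeff_sub, Polynomial.coeff_C_mul, Polynomial.coeff_X_one, mul_one,
        Polynomial.coeff_C_ne_zero one_ne_zero, sub_zero, Polynomial.coeff_zero] at this
      exact (IsLocalization.map_units A d).ne_zero (congrArg Subtype.val this)
    · simp only [map_sub, map_mul, Polynomial.aeval_C, Polynomial.aeval_X]
      show algebraMap K A d * a - algebraMap K A c = 0
      rw [mul_comm, hcd, sub_self]
  obtain ⟨t, hts, ht⟩ := exists_isTranscendenceBasis_subset (R := B) (Set.range x)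
  haveI : Finite t := ((Set.finite_range x).subset hts).to_subtype
  haveI := Fintype.ofFinite t
  have htd : Algebra.trdeg B A = Fintype.card t := by
    rw [← ht.cardinalMk_eq_trdeg, Cardinal.mk_fintype]
  have hsum := trdeg_add_eq k B (A := A)
  rw [hA, htd] at hsum
  obtain ⟨m, hm⟩ := Cardinal.lt_aleph0.1 (trdeg_lt_aleph0_of_finiteType (R := k) (S := B))
  rw [hm] at hsum
  have hsum' : m + Fintype.card t = n := by exact_mod_cast hsum
  refine ⟨m, hm, ?_⟩
  -- the variables outside `t`
  have hcard : Fintype.card {i : Fin n // ¬ x i ∈ t} = m := by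
    have h1 : Fintype.card {i : Fin n // x i ∈ t} = Fintype.card t := by
      refine Fintype.card_congr (Equiv.ofBijective (fun i => (⟨x i.1, i.2⟩ : t)) ⟨fun a b h => ?_, fun y => ?_⟩)
      · exact Subtype.ext (hxinj (congrArg Subtype.val h))
      · obtain ⟨i, hi⟩ := hts y.2
        exact ⟨⟨i, hi ▸ y.2⟩, Subtype.ext hi⟩
    rw [Fintype.card_subtype_compl, h1, Fintype.card_fin]
    omega
  let e := Fintype.equivFinOfCardEq hcard
  -- a prime in general position
  let R₀ := Algebra.adjoin B (Set.range (Subtype.val : t → A))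
  haveI : Algebra.IsAlgebraic R₀ A := ht.isAlgebraic
  haveI : Algebra.FiniteType k A := Algebra.FiniteType.trans (S := K) inferInstance (IsLocalization.finiteType_of_monoid_fg (Submonoid.powers p) A)
  haveI : Algebra.FiniteType R₀ A := Algebra.FiniteType.of_restrictScalars_finiteType k R₀ A
  haveI : FaithfulSMul R₀ A := (faithfulSMul_iff_algebraMap_injective _ _).2 Subtype.val_injective
  obtain ⟨g, hg, hover⟩ := exists_prime_over (R := R₀) (A := A)
  let E := ht.1.aevalEquiv
  obtain ⟨c, hc⟩ : ∃ c : t → k, eval (fun j => algebraMap k B (c j)) (E.symm g) ≠ 0 := by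
    by_contra h
    simp only [not_exists, not_not] at h
    refine hg (E.symm.injective ?_)
    rw [map_zero]
    refine MvPolynomial.funext_set (fun _ => Set.range (algebraMap k B))
      (fun _ => Set.infinite_range_of_injective (algebraMap k B).injective) fun v hv => ?_
    choose c hc using fun j => hv j trivial
    rw [map_zero, ← h c]
    exact congrArg (fun w => eval w (E.symm g)) (funext fun j => (hc j).symm)
  let ev : R₀ →+* B := (eval (fun j => algebraMap k B (c j))).comp (E.symm : R₀ →+* MvPolynomial t B)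
  obtain ⟨Q, hQ, hQP⟩ := hover (RingHom.ker ev) (RingHom.ker_isPrime ev) hc
  let π : A →ₐ[k] A ⧸ Q := Ideal.Quotient.mkₐ k Q
  have hπt : ∀ j : t, π j = algebraMap k _ (c j) := by
    intro j
    rw [← π.commutes]
    apply Ideal.Quotient.eq.2
    have hmem : (E (X j) - algebraMap B R₀ (algebraMap k B (c j))) ∈ RingHom.ker ev := by
      rw [RingHom.mem_ker, map_sub]
      show eval _ (E.symm (E (X j))) - eval _ (E.symm (algebraMap B R₀ _)) = 0
      rw [AlgEquiv.symm_apply_apply, AlgEquiv.commutes, eval_X, MvPolynomial.algebraMap_eq, eval_C, sub_self]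
    rw [← hQP, Ideal.mem_comap, map_sub] at hmem
    have h2 : algebraMap R₀ A (E (X j)) = (j : A) := by
      rw [AlgebraicIndependent.algebraMap_aevalEquiv, aeval_X]
    rw [h2, ← IsScalarTower.algebraMap_apply, ← IsScalarTower.algebraMap_apply] at hmem
    exact hmem
  let v : Fin n → MvPolynomial (Fin m) k := fun i => if h : x i ∈ t then C (c ⟨x i, h⟩) else X (e ⟨i, h⟩)
  let θ₀ : K →ₐ[k] MvPolynomial (Fin m) k := aeval v
  let σ₀ : MvPolynomial (Fin m) k →ₐ[k] A ⧸ Q := aeval (fun l => π (x (e.symm l).1))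
  have hσθ : σ₀.comp θ₀ = π.comp (IsScalarTower.toAlgHom k K A) := by
    refine MvPolynomial.algHom_ext fun i => ?_
    show σ₀ (θ₀ (X i)) = π (x i)
    show aeval (fun l => π (x (e.symm l).1)) (aeval v (X i : MvPolynomial (Fin n) k)) = π (x i)
    rw [aeval_X]
    by_cases h : x i ∈ t
    · rw [show v i = C (c ⟨x i, h⟩) from dif_pos h, aeval_C]; exact (hπt ⟨x i, h⟩).symm
    · rw [show v i = X (e ⟨i, h⟩) from dif_neg h, aeval_X, Equiv.symm_apply_apply]
  have hu : IsUnit (σ₀ (θ₀ p)) := by
    rw [show σ₀ (θ₀ p) = π (algebraMap K A p) from DFunLike.congr_fun hσθ p]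
    exact (IsLocalization.Away.algebraMap_isUnit p).map π
  have hq : θ₀ p ≠ 0 := fun h => by
    rw [h, map_zero, isUnit_zero_iff] at hu
    exact zero_ne_one hu
  let q := θ₀ p
  obtain ⟨θA, σ, hfac⟩ := exists_lift_comp p θ₀ σ₀ π (fun z => DFunLike.congr_fun hσθ z) hu
  refine ⟨q, hq, θA.comp ι, (injective_iff_map_eq_zero _).2 fun b hb => ?_⟩
  have h1 : π (ι b) = 0 := by
    rw [← hfac, AlgHom.comp_apply, show θA (ι b) = 0 from hb, map_zero]
  have h2 : algebraMap B R₀ b ∈ RingHom.ker ev := by
    rw [← hQP, Ideal.mem_comap, ← IsScalarTower.algebraMap_apply]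
    exact Ideal.Quotient.eq_zero_iff_mem.1 h1
  rw [RingHom.mem_ker] at h2
  simpa [ev] using h2

end GrothLib.RetractRat13
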