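import Groth.Agent.Lib.RetractRat13.Basic
import Mathlib.RingTheory.LocalRing.ResidueField.Basic
import Mathlib.AlgebraicGeometry.Morphisms.FiniteType
import Mathlib.RingTheory.Localization.AtPrime.Basic

/-!
# Retract rationality and the local lifting property
-/

set_option autoImplicit false
set_option linter.all false
set_option backward.isDefEq.respectTransparency false

universe u

open CategoryTheory CategoryTheory.Limits AlgebraicGeometry TopologicalSpace MvPolynomial IsLocalRing

noncomputable section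

namespace GrothLib.RetractRat13

variable {k : Type u} [Field k] {X : Scheme.{u}} (f : X ⟶ Spec (CommRingCat.of k))

/-- An open subscheme of `X` is a retract of an open subscheme of affine space over `k`. -/
def IsRetractRational : Prop :=
  ∃ (U : X.Opens) (n : ℕ) (Y : (Spec (CommRingCat.of (MvPolynomial (Fin n) k))).Opens)
      (a : (U : Scheme.{u}) ⟶ (Y : Scheme.{u})) (b : (Y : Scheme.{u}) ⟶ (U : Scheme.{u})),
      (U : Set X).Nonempty ∧ a ≫ b = 𝟙 (U : Scheme.{u}) ∧
      a ≫ Y.ι ≫ Spec.map (CommRingCat.ofHom (algebraMap k (MvPolynomial (Fin n) k))) = U.ι ≫ f ∧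
      b ≫ U.ι ≫ f = Y.ι ≫ Spec.map (CommRingCat.ofHom (algebraMap k (MvPolynomial (Fin n) k)))

variable {f}

theorem isRetractRational_of_immersions {P Q : Scheme.{u}} [Nonempty P] {n : ℕ} (jU : P ⟶ X)
    (jY : Q ⟶ Spec (CommRingCat.of (MvPolynomial (Fin n) k))) [IsOpenImmersion jU] [IsOpenImmersion jY]
    (a : P ⟶ Q) (b : Q ⟶ P) (hab : a ≫ b = 𝟙 P)
    (ha : a ≫ jY ≫ Spec.map (CommRingCat.ofHom (algebraMap k (MvPolynomial (Fin n) k))) = jU ≫ f)
    (hb : b ≫ jU ≫ f = jY ≫ Spec.map (CommRingCat.ofHom (algebraMap k (MvPolynomial (Fin n) k)))) :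
    IsRetractRational f := by
  refine ⟨jU.opensRange, n, jY.opensRange, jU.isoOpensRange.inv ≫ a ≫ jY.isoOpensRange.hom,
    jY.isoOpensRange.inv ≫ b ≫ jU.isoOpensRange.hom, Set.range_nonempty _, ?_, ?_, ?_⟩
  · simp only [Category.assoc, Iso.hom_inv_id_assoc, reassoc_of% hab, Iso.inv_hom_id]
  · simp only [Category.assoc, Scheme.Hom.isoOpensRange_hom_ι_assoc, ha]
    rw [← Category.assoc, Scheme.Hom.isoOpensRange_inv_comp]
  · simp only [Category.assoc, Scheme.Hom.isoOpensRange_hom_ι_assoc, hb]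
    rw [← Category.assoc, Scheme.Hom.isoOpensRange_inv_comp]

theorem range_lift_of_closedPoint {A : Type u} [CommRing A] [IsLocalRing A] {S : Scheme.{u}}
    (φ : Spec (CommRingCat.of A) ⟶ S) (U : S.Opens) (h : φ (closedPoint A) ∈ U) :
    Set.range φ ⊆ (U : Set S) := by
  rintro _ ⟨z, rfl⟩
  exact ((IsLocalRing.specializes_closedPoint (R := A) z).map φ.continuous).mem_open U.2 h

/-- An open of a retract rational scheme has the lifting property for local algebras. -/
theorem exists_lifting (h : IsRetractRational f) :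
    ∃ V : X.Opens, (V : Set X).Nonempty ∧
      ∀ (A : Type u) [CommRing A] [IsLocalRing A] [Algebra k A]
        (g : Spec (CommRingCat.of (IsLocalRing.ResidueField A)) ⟶ (V : Scheme.{u})),
        g ≫ V.ι ≫ f = Spec.map (CommRingCat.ofHom ((IsLocalRing.residue A).comp (algebraMap k A))) →
        ∃ g' : Spec (CommRingCat.of A) ⟶ (V : Scheme.{u}),
          Spec.map (CommRingCat.ofHom (IsLocalRing.residue A)) ≫ g' = g ∧
          g' ≫ V.ι ≫ f = Spec.map (CommRingCat.ofHom (algebraMap k A)) := by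
  obtain ⟨U, n, Y, a, b, hne, hab, ha, hb⟩ := h
  refine ⟨U, hne, fun A _ _ _ g hg => ?_⟩
  let r₀ := Spec.preimage (g ≫ a ≫ Y.ι)
  have hr₀ : Spec.map r₀ = g ≫ a ≫ Y.ι := Spec.map_preimage _
  choose v hv using fun i : Fin n => IsLocalRing.residue_surjective (r₀.hom (MvPolynomial.X i))
  let q : MvPolynomial (Fin n) k →ₐ[k] A := aeval v
  have hk : CommRingCat.ofHom (algebraMap k (MvPolynomial (Fin n) k)) ≫ r₀ =
      CommRingCat.ofHom ((IsLocalRing.residue A).comp (algebraMap k A)) := by
    apply Spec.map_injective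
    rw [Spec.map_comp, hr₀, Category.assoc, Category.assoc, ha, hg]
  have hq : r₀ = CommRingCat.ofHom q.toRingHom ≫ CommRingCat.ofHom (IsLocalRing.residue A) := by
    refine CommRingCat.hom_ext (MvPolynomial.ringHom_ext (fun r => ?_) (fun i => ?_))
    · have h1 := CategoryTheory.congr_fun hk r
      show r₀.hom (C r) = IsLocalRing.residue A (q (C r))
      rw [show q (C r) = algebraMap k A r from q.commutes r]
      exact h1
    · show r₀.hom (MvPolynomial.X i) = IsLocalRing.residue A (q (MvPolynomial.X i))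
      rw [show q (MvPolynomial.X i) = v i from aeval_X _ i, hv]
  let φ := Spec.map (CommRingCat.ofHom q.toRingHom)
  have hφ : Spec.map (CommRingCat.ofHom (IsLocalRing.residue A)) ≫ φ = g ≫ a ≫ Y.ι := by
    rw [← hr₀, hq, Spec.map_comp]
  have hr : Set.range φ ⊆ Set.range Y.ι := by
    rw [Scheme.Opens.range_ι]
    refine range_lift_of_closedPoint φ Y ?_
    let o : ↑(Spec (CommRingCat.of (IsLocalRing.ResidueField A))) := closedPoint (IsLocalRing.ResidueField A)
    have hcl : Spec.map (CommRingCat.ofHom (IsLocalRing.residue A)) o = closedPoint A :=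
      IsLocalRing.comap_closedPoint (IsLocalRing.residue A)
    rw [← hcl, ← Scheme.Hom.comp_apply, hφ]
    exact (a (g o)).2
  refine ⟨IsOpenImmersion.lift Y.ι φ hr ≫ b, ?_, ?_⟩
  · have h1 : Spec.map (CommRingCat.ofHom (IsLocalRing.residue A)) ≫ IsOpenImmersion.lift Y.ι φ hr = g ≫ a := by
      rw [← cancel_mono Y.ι, Category.assoc, IsOpenImmersion.lift_fac, hφ, Category.assoc]
    rw [reassoc_of% h1, hab, Category.comp_id]
  · rw [Category.assoc, hb, IsOpenImmersion.lift_fac_assoc, ← Spec.map_comp]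
    congr 1
    exact CommRingCat.hom_ext (RingHom.ext fun r => q.commutes r)

theorem exists_retract_alg {B : Type u} [CommRing B] [IsDomain B] [Algebra k B] {n : ℕ}
    (π : MvPolynomial (Fin n) k →ₐ[k] B) (hπ : Function.Surjective π)
    {A : Type u} [CommRing A] [IsLocalRing A] [Algebra k A] [Algebra (MvPolynomial (Fin n) k) A]
    [IsScalarTower k (MvPolynomial (Fin n) k) A] [(RingHom.ker π).IsPrime]
    [IsLocalization.AtPrime A (RingHom.ker π)] (β : B →ₐ[k] A)
    (e : B →+* ResidueField A) (he : Function.Injective e)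
    (heπ : ∀ z, e (π z) = residue A (algebraMap _ A z)) (hβ : ∀ y, residue A (β y) = e y) :
    ∃ (s₀ : B) (L : Type u) (_ : CommRing L) (_ : Algebra (MvPolynomial (Fin n) k) L)
      (ρ : L →+* Localization.Away s₀) (γ : Localization.Away s₀ →+* L),
      s₀ ≠ 0 ∧ IsOpenImmersion (Spec.map (CommRingCat.ofHom (algebraMap (MvPolynomial (Fin n) k) L))) ∧
      ρ.comp γ = RingHom.id _ ∧
      ρ.comp (algebraMap (MvPolynomial (Fin n) k) L) = (algebraMap B (Localization.Away s₀)).comp π.toRingHom ∧
      (γ.comp (algebraMap B (Localization.Away s₀))).comp (algebraMap k B) =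
        (algebraMap (MvPolynomial (Fin n) k) L).comp (algebraMap k _) := by
  classical
  let K := MvPolynomial (Fin n) k
  let I := RingHom.ker π
  obtain ⟨⟨s, hs⟩, hint⟩ := IsLocalization.exist_integer_multiples_of_finite I.primeCompl
    (fun i : Fin n => β (π (MvPolynomial.X i)))
  choose c hc using hint
  have hs0 : s ≠ 0 := fun h => hs (h ▸ I.zero_mem)
  let L₁ := Localization.Away s
  let ψ : L₁ →ₐ[k] A := IsLocalization.liftAlgHom (M := Submonoid.powers s)
    (f := IsScalarTower.toAlgHom k K A) (by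
      rintro ⟨_, N, rfl⟩
      show IsUnit (algebraMap K A (s ^ N))
      rw [map_pow]
      exact (IsLocalization.map_units A (⟨s, hs⟩ : I.primeCompl)).pow N)
  have hψalg : ∀ z : K, ψ (algebraMap K L₁ z) = algebraMap K A z := fun z => IsLocalization.lift_eq _ z
  have hψinj : Function.Injective ψ := by
    intro z w hzw
    obtain ⟨a, ⟨_, N, rfl⟩, rfl⟩ := IsLocalization.exists_mk'_eq (Submonoid.powers s) z
    obtain ⟨b, ⟨_, M, rfl⟩, rfl⟩ := IsLocalization.exists_mk'_eq (Submonoid.powers s) w
    rw [IsLocalization.mk'_eq_iff_eq]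
    congr 1
    apply IsLocalization.injective A (show I.primeCompl ≤ nonZeroDivisors K from I.primeCompl_le_nonZeroDivisors)
    have h1 := IsLocalization.mk'_spec L₁ a (⟨_, N, rfl⟩ : Submonoid.powers s)
    have h2 := IsLocalization.mk'_spec L₁ b (⟨_, M, rfl⟩ : Submonoid.powers s)
    have h1' := congrArg ψ h1
    have h2' := congrArg ψ h2
    rw [map_mul, hψalg, hψalg] at h1' h2'
    rw [map_mul, map_mul, ← h1', ← h2', hzw]
    ring
  let γ₀ : K →ₐ[k] L₁ := aeval fun i => algebraMap K L₁ (c i) * IsLocalization.Away.invSelf s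
  have hψγ : ψ.comp γ₀ = β.comp π := by
    refine MvPolynomial.algHom_ext fun i => ?_
    show ψ (γ₀ (MvPolynomial.X i)) = β (π (MvPolynomial.X i))
    rw [show γ₀ (MvPolynomial.X i) = _ from aeval_X _ i, map_mul, hψalg, hc i, Algebra.smul_def]
    have h2 : algebraMap K A s * ψ (IsLocalization.Away.invSelf s) = 1 := by
      rw [← hψalg, ← map_mul, IsLocalization.Away.mul_invSelf, map_one]
    show algebraMap K A s * β (π (MvPolynomial.X i)) * _ = _
    rw [mul_right_comm, h2, one_mul]
  have hker : ∀ z ∈ RingHom.ker π.toRingHom, γ₀ z = 0 := fun z hz => hψinj (by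
    rw [map_zero, show ψ (γ₀ z) = β (π z) from DFunLike.congr_fun hψγ z, show π z = 0 from hz, map_zero])
  let γ₁ : B →+* L₁ := RingHom.liftOfSurjective π.toRingHom hπ ⟨γ₀.toRingHom, fun z hz => hker z hz⟩
  have hγ₁ : ∀ z, γ₁ (π z) = γ₀ z := fun z =>
    RingHom.liftOfRightInverse_comp_apply _ _ _ ⟨γ₀.toRingHom, _⟩ z
  let s₀ := π s
  have hs₀ : s₀ ≠ 0 := hs
  let ρ₁ : L₁ →+* Localization.Away s₀ := IsLocalization.map (M := Submonoid.powers s) (T := Submonoid.powers s₀)
    (Localization.Away s₀) π.toRingHom (by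
      rw [Submonoid.powers_le]
      exact Submonoid.mem_powers (π s))
  have hes : IsUnit (e s₀) := isUnit_iff_ne_zero.2 fun h => hs₀ (he (h.trans (map_zero e).symm))
  let e' : Localization.Away s₀ →+* ResidueField A := IsLocalization.Away.lift s₀ hes
  have he' : ∀ y, e' (algebraMap B _ y) = e y := fun y => IsLocalization.Away.lift_eq _ hes y
  have hle : Submonoid.powers s₀ ≤ nonZeroDivisors B := powers_le_nonZeroDivisors_of_noZeroDivisors hs₀
  have he'inj : Function.Injective e' := by
    intro z w hzw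
    obtain ⟨a, ma, rfl⟩ := IsLocalization.exists_mk'_eq (Submonoid.powers s₀) z
    obtain ⟨b, mb, rfl⟩ := IsLocalization.exists_mk'_eq (Submonoid.powers s₀) w
    rw [IsLocalization.mk'_eq_iff_eq]
    congr 1
    apply he
    have h1' := congrArg e' (IsLocalization.mk'_spec (Localization.Away s₀) a ma)
    have h2' := congrArg e' (IsLocalization.mk'_spec (Localization.Away s₀) b mb)
    rw [map_mul, he', he'] at h1' h2'
    rw [map_mul, map_mul, ← h1', ← h2', hzw]
    ring
  have he'ρ : e'.comp ρ₁ = (residue A).comp ψ.toRingHom := by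
    apply IsLocalization.ringHom_ext (Submonoid.powers s)
    refine RingHom.ext fun z => ?_
    show e' (ρ₁ (algebraMap K L₁ z)) = residue A (ψ (algebraMap K L₁ z))
    rw [IsLocalization.map_eq, hψalg, he']
    exact heπ z
  have hργ : ∀ y, ρ₁ (γ₁ y) = algebraMap B _ y := by
    intro y
    obtain ⟨z, rfl⟩ := hπ y
    apply he'inj
    rw [he', hγ₁]
    show (e'.comp ρ₁) (γ₀ z) = _
    rw [he'ρ]
    show residue A (ψ (γ₀ z)) = _
    rw [show ψ (γ₀ z) = β (π z) from DFunLike.congr_fun hψγ z, hβ]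
  let w := γ₁ s₀
  let L := Localization.Away w
  have hρw : IsUnit (ρ₁ w) := by rw [hργ]; exact IsLocalization.Away.algebraMap_isUnit s₀
  let ρ : L →+* Localization.Away s₀ := IsLocalization.Away.lift w hρw
  let γ : Localization.Away s₀ →+* L := IsLocalization.Away.lift s₀ (g := (algebraMap L₁ L).comp γ₁)
    (IsLocalization.Away.algebraMap_isUnit w)
  letI : Algebra K L := ((algebraMap L₁ L).comp (algebraMap K L₁)).toAlgebra
  refine ⟨s₀, L, inferInstance, inferInstance, ρ, γ, hs₀, ?_, ?_, ?_, ?_⟩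
  · show IsOpenImmersion (Spec.map (CommRingCat.ofHom (algebraMap K L₁) ≫ CommRingCat.ofHom (algebraMap L₁ L)))
    rw [Spec.map_comp]
    infer_instance
  · apply IsLocalization.ringHom_ext (Submonoid.powers s₀)
    refine RingHom.ext fun y => ?_
    show ρ (γ (algebraMap B _ y)) = algebraMap B _ y
    rw [IsLocalization.Away.lift_eq]
    show ρ (algebraMap L₁ L (γ₁ y)) = _
    rw [IsLocalization.Away.lift_eq, hργ]
  · refine RingHom.ext fun z => ?_
    show ρ (algebraMap L₁ L (algebraMap K L₁ z)) = algebraMap B _ (π z)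
    rw [IsLocalization.Away.lift_eq, IsLocalization.map_eq]
    rfl
  · refine RingHom.ext fun r => ?_
    show γ (algebraMap B _ (algebraMap k B r)) = algebraMap L₁ L (algebraMap K L₁ (algebraMap k K r))
    rw [IsLocalization.Away.lift_eq]
    show algebraMap L₁ L (γ₁ (algebraMap k B r)) = _
    rw [← π.commutes, hγ₁, γ₀.commutes, IsScalarTower.algebraMap_apply k K L₁]

theorem isRetractRational_of_lifting [IsIntegral X] [LocallyOfFiniteType f] (V : X.Opens)
    (hne : (V : Set X).Nonempty)
    (hV : ∀ (A : Type u) [CommRing A] [IsLocalRing A] [Algebra k A]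
        (g : Spec (CommRingCat.of (IsLocalRing.ResidueField A)) ⟶ (V : Scheme.{u})),
        g ≫ V.ι ≫ f = Spec.map (CommRingCat.ofHom ((IsLocalRing.residue A).comp (algebraMap k A))) →
        ∃ g' : Spec (CommRingCat.of A) ⟶ (V : Scheme.{u}),
          Spec.map (CommRingCat.ofHom (IsLocalRing.residue A)) ≫ g' = g ∧
          g' ≫ V.ι ≫ f = Spec.map (CommRingCat.ofHom (algebraMap k A))) :
    IsRetractRational f := by
  obtain ⟨x, hx⟩ := hne
  obtain ⟨U, hU, hxU, hUV⟩ := exists_isAffineOpen_mem_and_subset hx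
  haveI : Nonempty (U : Scheme.{u}) := ⟨⟨x, hxU⟩⟩
  let ψ₀ := Spec.preimage (hU.fromSpec ≫ f)
  have hψ₀ : Spec.map ψ₀ = hU.fromSpec ≫ f := Spec.map_preimage _
  letI : Algebra k Γ(X, U) := ψ₀.hom.toAlgebra
  haveI : Algebra.FiniteType k Γ(X, U) := by
    have : LocallyOfFiniteType (Spec.map ψ₀) := by rw [hψ₀]; infer_instance
    exact HasRingHomProperty.Spec_iff.1 this
  obtain ⟨n, π, hπ⟩ := Algebra.FiniteType.iff_quotient_mvPolynomial''.1 (inferInstance : Algebra.FiniteType k Γ(X, U))
  haveI hI : (RingHom.ker π).IsPrime := RingHom.ker_isPrime π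
  let A := Localization.AtPrime (RingHom.ker π)
  let K := MvPolynomial (Fin n) k
  let e₀ : K →+* ResidueField A := (residue A).comp (algebraMap K A)
  have he₀ : ∀ z, e₀ z = 0 ↔ π z = 0 := by
    intro z
    show residue A (algebraMap K A z) = 0 ↔ _
    rw [IsLocalRing.residue_eq_zero_iff, IsLocalization.AtPrime.to_map_mem_maximal_iff A (RingHom.ker π)]
    rfl
  let e : Γ(X, U) →+* ResidueField A :=
    RingHom.liftOfSurjective π.toRingHom hπ ⟨e₀, fun z hz => (he₀ z).2 hz⟩
  have heπ : ∀ z, e (π z) = e₀ z := fun z => RingHom.liftOfRightInverse_comp_apply _ _ _ ⟨e₀, _⟩ z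
  have he : Function.Injective e := (injective_iff_map_eq_zero e).2 fun y hy => by
    obtain ⟨z, rfl⟩ := hπ y
    rw [heπ] at hy
    exact (he₀ z).1 hy
  let jV : Spec Γ(X, U) ⟶ (V : Scheme.{u}) := IsOpenImmersion.lift V.ι hU.fromSpec (by
    rw [hU.range_fromSpec, Scheme.Opens.range_ι]; exact hUV)
  have hjV : jV ≫ V.ι = hU.fromSpec := IsOpenImmersion.lift_fac _ _ _
  let g := Spec.map (CommRingCat.ofHom e) ≫ jV
  obtain ⟨g', hg', hg'k⟩ := hV A g (by
    rw [Category.assoc, reassoc_of% hjV, ← hψ₀, ← Spec.map_comp]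
    congr 1
    refine CommRingCat.hom_ext (RingHom.ext fun r => ?_)
    show e (algebraMap k Γ(X, U) r) = residue A (algebraMap k A r)
    rw [← π.commutes, heπ]
    show residue A (algebraMap K A (algebraMap k K r)) = _
    rw [← IsScalarTower.algebraMap_apply])
  let o : ↑(Spec (CommRingCat.of (IsLocalRing.ResidueField A))) := closedPoint (IsLocalRing.ResidueField A)
  have hcl : Spec.map (CommRingCat.ofHom (residue A)) o = closedPoint A :=
    IsLocalRing.comap_closedPoint (residue A)
  have hr : Set.range (g' ≫ V.ι) ⊆ Set.range hU.fromSpec := by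
    rw [hU.range_fromSpec]
    refine range_lift_of_closedPoint (g' ≫ V.ι) U ?_
    rw [← hcl, ← Scheme.Hom.comp_apply, reassoc_of% hg', Category.assoc, hjV]
    have : hU.fromSpec (Spec.map (CommRingCat.ofHom e) o) ∈ (U : Set X) := by
      rw [← hU.range_fromSpec]; exact ⟨_, rfl⟩
    exact this
  let βs := IsOpenImmersion.lift hU.fromSpec (g' ≫ V.ι) hr
  have hβs : βs ≫ hU.fromSpec = g' ≫ V.ι := IsOpenImmersion.lift_fac _ _ _
  let β₀ := Spec.preimage βs
  have hβ₀ : Spec.map β₀ = βs := Spec.map_preimage _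
  have hβk : ψ₀ ≫ β₀ = CommRingCat.ofHom (algebraMap k A) := by
    apply Spec.map_injective
    rw [Spec.map_comp, hβ₀, hψ₀, reassoc_of% hβs, hg'k]
  let β : Γ(X, U) →ₐ[k] A := { β₀.hom with commutes' := fun r => CategoryTheory.congr_fun hβk r }
  have hβ : ∀ y, residue A (β y) = e y := by
    have h1 : β₀ ≫ CommRingCat.ofHom (residue A) = CommRingCat.ofHom e := by
      apply Spec.map_injective
      rw [Spec.map_comp, hβ₀, ← cancel_mono hU.fromSpec, Category.assoc, hβs, reassoc_of% hg', Category.assoc, hjV]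
    exact fun y => CategoryTheory.congr_fun h1 y
  obtain ⟨s₀, L, _, _, ρ, γ, hs₀, hopen, hργ, hρ, hγ⟩ := exists_retract_alg π hπ β e he heπ hβ
  haveI : IsDomain (Localization.Away s₀) :=
    IsLocalization.isDomain_localization (powers_le_nonZeroDivisors_of_noZeroDivisors hs₀)
  let i : Spec (CommRingCat.of (Localization.Away s₀)) ⟶ Spec Γ(X, U) :=
    Spec.map (CommRingCat.ofHom (algebraMap Γ(X, U) (Localization.Away s₀)))
  haveI : IsOpenImmersion i := inferInstance
  haveI : Nonempty (Spec (CommRingCat.of (Localization.Away s₀))) := inferInstanceAs (Nonempty (PrimeSpectrum _))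
  refine isRetractRational_of_immersions (i ≫ hU.fromSpec)
    (Spec.map (CommRingCat.ofHom (algebraMap (MvPolynomial (Fin n) k) L)))
    (Spec.map (CommRingCat.ofHom ρ)) (Spec.map (CommRingCat.ofHom γ)) ?_ ?_ ?_
  · rw [← Spec.map_comp, ← CommRingCat.ofHom_comp, hργ]
    exact Spec.map_id _
  · rw [Category.assoc, ← hψ₀, ← Spec.map_comp, ← Spec.map_comp, ← Spec.map_comp]
    congr 1
    refine CommRingCat.hom_ext (RingHom.ext fun r => ?_)
    show ρ (algebraMap (MvPolynomial (Fin n) k) L (algebraMap k _ r)) = algebraMap _ _ (algebraMap k Γ(X, U) r)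
    rw [← π.commutes]
    exact DFunLike.congr_fun hρ _
  · rw [Category.assoc, ← hψ₀, ← Spec.map_comp, ← Spec.map_comp, ← Spec.map_comp]
    congr 1
    refine CommRingCat.hom_ext (RingHom.ext fun r => ?_)
    exact DFunLike.congr_fun hγ r

end GrothLib.RetractRat13
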